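import Groth.Agent.Lib.AlphaExt6.Pts
import Groth.Agent.Lib.GaDualP13.Ring
import Groth.Agent.Lib.GaDualQ13.Char
import Groth.Agent.Lib.FppfH90Sch6.Main
import Groth.Agent.S13374
import Groth.Prelude.Def_CGrpSh2

/-!
# Self-duality of `α_p`
-/

set_option autoImplicit false
set_option backward.isDefEq.respectTransparency false
set_option backward.isDefEq.respectTransparency.types false
set_option linter.all false
set_option maxHeartbeats 1500000
set_option synthInstance.maxHeartbeats 200000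

universe u

open CategoryTheory CategoryTheory.Limits AlgebraicGeometry Opposite MonoidalCategory CartesianMonoidalCategory MonObj
open GrothLib.AlphaExt6 (Gn fn fn_injective fn_comp fn_pow fn_mul fn_one exists_pt)
open GrothLib.GaDualQ13 (GmSh gmSec gmVal gmVal_gmSec gmVal_injective gmVal_map gmVal_add gmVal_zero isUnit_gmVal extOb extHom toExt toExt_bijective appTop_extHom)
open GrothLib.GaDual (expp)
open GrothLib.GaDualP13 (IsCharPoly isCharPoly_expp expp_mul_expp eval₂_expp map_expp coeff_expp_one carry)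
open GrothLib.FppfH90Sch6 (OU oι)

noncomputable section

namespace GrothLib.AlphaDual6

local notation "fppf" => Scheme.fppfPrecoverage

variable (p : ℕ) [Fact p.Prime] (R : Type u) [CommRing R] [CharP R p]

local notation "X₀" => Spec (CommRingCat.of R)
local notation "AP" => CGrpSh.pts fppf (Gn p 1 R)

theorem p_eq_zero (T : Over X₀) : (p : Γ(T.left, ⊤)) = 0 := by
  rw [← map_natCast (GrothLib.AlphaExt6.base T), CharP.cast_eq_zero, map_zero]

theorem fn_p {T : Over X₀} (x : T ⟶ Gn p 1 R) : fn x ^ p = 0 := by simpa using fn_pow x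

/-- The pairing. -/
def pairVal {A : Type u} [CommRing A] (a t : A) : A := (expp p a 1).eval₂ (RingHom.id A) t

theorem map_pairVal {A B : Type u} [CommRing A] [CommRing B] (hp : (p : A) = 0) (φ : A →+* B) (a t : A) :
    φ (pairVal p a t) = pairVal p (φ a) (φ t) := by
  rw [pairVal, pairVal, ← map_expp p φ hp, Polynomial.eval₂_map, Polynomial.hom_eval₂, RingHom.comp_id, RingHom.id_comp]

theorem isChar {A : Type u} [CommRing A] (hp : (p : A) = 0) {a : A} (ha : a ^ p = 0) : IsCharPoly (expp p a 1) := by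
  simpa using isCharPoly_expp p hp a ha 0

theorem pairVal_add_right {A : Type u} [CommRing A] (hp : (p : A) = 0) {a : A} (ha : a ^ p = 0) (s t : A) :
    pairVal p a (s + t) = pairVal p a s * pairVal p a t :=
  (isChar p hp ha).eval₂_add (RingHom.id A) s t

theorem pairVal_add_left {A : Type u} [CommRing A] (hp : (p : A) = 0) {a b : A} (ha : a ^ p = 0) (hb : b ^ p = 0)
    {t : A} (ht : t ^ p = 0) : pairVal p (a + b) t = pairVal p a t * pairVal p b t := by
  have h := congrArg (Polynomial.eval₂ (RingHom.id A) t) (expp_mul_expp p hp a b ha hb 0)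
  simp only [pow_zero, pow_one, zero_add, Polynomial.eval₂_mul] at h
  rw [pairVal, pairVal, pairVal, h, eval₂_expp p (RingHom.id A) (carry p a b) p t, ht]
  rw [Finset.sum_eq_single 0 (fun j _ hj => by rw [mul_zero, zero_pow hj, mul_zero])
    (fun h => absurd (Finset.mem_range.2 (Fact.out : p.Prime).pos) h)]
  simp

variable {T : Over (Spec (CommRingCat.of R))} (a : T ⟶ Gn p 1 R)

/-- The value of the pairing as a unit section. -/
def pairSec {W : Over X₀} (g : W ⟶ T) (u : W ⟶ Gn p 1 R) : (GmSh X₀).obj.obj (op W) :=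
  gmSec ((isChar p (p_eq_zero p R W) (fn_p p R (g ≫ a))).isUnit_eval₂ (RingHom.id _) (fn u)).unit

theorem gmVal_pairSec {W : Over X₀} (g : W ⟶ T) (u : W ⟶ Gn p 1 R) :
    gmVal (pairSec p R a g u) = pairVal p (fn (g ≫ a)) (fn u) := (gmVal_gmSec _).trans (IsUnit.unit_spec _)

theorem pairSec_comp {W W' : Over X₀} (k : W' ⟶ W) (g : W ⟶ T) (u : W ⟶ Gn p 1 R) :
    (GmSh X₀).obj.map k.op (pairSec p R a g u) = pairSec p R a (k ≫ g) (k ≫ u) := by
  apply gmVal_injective
  rw [gmVal_map, gmVal_pairSec, gmVal_pairSec, Category.assoc, fn_comp k, fn_comp k]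
  exact map_pairVal p (p_eq_zero p R W) k.left.appTop.hom _ _

theorem pairSec_mul {W : Over X₀} (g : W ⟶ T) (u v : W ⟶ Gn p 1 R) :
    pairSec p R a g (u * v) = pairSec p R a g u + pairSec p R a g v := by
  apply gmVal_injective
  rw [gmVal_add, gmVal_pairSec, gmVal_pairSec, gmVal_pairSec, fn_mul]
  exact pairVal_add_right p (p_eq_zero p R W) (fn_p p R _) _ _

theorem pairSec_mul_left (b : T ⟶ Gn p 1 R) {W : Over X₀} (g : W ⟶ T) (u : W ⟶ Gn p 1 R) :
    pairSec p R (a * b) g u = pairSec p R a g u + pairSec p R b g u := by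
  apply gmVal_injective
  rw [gmVal_add, gmVal_pairSec, gmVal_pairSec, gmVal_pairSec, MonObj.comp_mul, fn_mul]
  exact pairVal_add_left p (p_eq_zero p R W) (fn_p p R _) (fn_p p R _) (fn_p p R _)

/-- The character attached to a point. -/
def pairHom : (CGrpSh.pts fppf (Gn p 1 R)).over T ⟶ (GmSh X₀).over T :=
  ⟨{ app := fun W => ConcreteCategory.ofHom (C := AddCommGrpCat.{u + 1})
        (X := ((CGrpSh.pts fppf (Gn p 1 R)).over T).obj.obj W) (Y := ((GmSh X₀).over T).obj.obj W)
        (AddMonoidHom.mk' (fun x => pairSec p R a (unop W).hom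
          (show ULift.{u + 1} (Additive ((unop W).left ⟶ Gn p 1 R)) from x).down.toMul) fun x y => pairSec_mul p R a _ _ _)
     naturality := fun W W' j => AddCommGrpCat.ext fun x => by
        let u : (unop W).left ⟶ Gn p 1 R := (show ULift.{u + 1} (Additive ((unop W).left ⟶ Gn p 1 R)) from x).down.toMul
        show pairSec p R a (unop W').hom (j.unop.left ≫ u) =
          (GmSh X₀).obj.map j.unop.left.op (pairSec p R a (unop W).hom u)
        rw [pairSec_comp, Over.w j.unop] }⟩

/-- The duality map. -/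
def dualMap : CGrpSh.pts fppf (Gn p 1 R) ⟶
    HomSh.homSh (QuotSh.J fppf X₀) (CGrpSh.pts fppf (Gn p 1 R)) (GmSh X₀) :=
  ⟨{ app := fun T => ConcreteCategory.ofHom (C := AddCommGrpCat.{u + 1})
        (X := (CGrpSh.pts fppf (Gn p 1 R)).obj.obj T)
        (Y := (HomSh.homSh (QuotSh.J fppf X₀) (CGrpSh.pts fppf (Gn p 1 R)) (GmSh X₀)).obj.obj T)
        (AddMonoidHom.mk' (fun x => pairHom p R (T := unop T)
          (show ULift.{u + 1} (Additive (unop T ⟶ Gn p 1 R)) from x).down.toMul) fun x y =>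
          Sheaf.hom_ext (NatTrans.ext (funext fun W => AddCommGrpCat.ext fun u => pairSec_mul_left p R _ _ _ _)))
     naturality := fun T T' j => AddCommGrpCat.ext fun x =>
        Sheaf.hom_ext (NatTrans.ext (funext fun W => AddCommGrpCat.ext fun u => by
          let a : unop T ⟶ Gn p 1 R := (show ULift.{u + 1} (Additive (unop T ⟶ Gn p 1 R)) from x).down.toMul
          let v : (unop W).left ⟶ Gn p 1 R := (show ULift.{u + 1} (Additive ((unop W).left ⟶ Gn p 1 R)) from u).down.toMul
          show pairSec p R (j.unop ≫ a) (unop W).hom v = pairSec p R a ((unop W).hom ≫ j.unop) v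
          apply gmVal_injective
          rw [gmVal_pairSec, gmVal_pairSec, Category.assoc])) }⟩

theorem dualMap_app {T : Over (Spec (CommRingCat.of R))} (a : T ⟶ Gn p 1 R) :
    (dualMap p R).hom.app (op T) (ULift.up.{u + 1} (Additive.ofMul a)) = pairHom p R a := rfl

theorem pairHom_app {T : Over (Spec (CommRingCat.of R))} (a : T ⟶ Gn p 1 R) {W : Over (Spec (CommRingCat.of R))}
    (g : W ⟶ T) (u : W ⟶ Gn p 1 R) :
    (pairHom p R a).hom.app (op (Over.mk g)) (ULift.up.{u + 1} (Additive.ofMul u)) = pairSec p R a g u := rfl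

theorem natDegree_expp_lt {A : Type u} [CommRing A] (a : A) : (expp p a 1).natDegree < p := by
  have h : (expp p a 1).natDegree ≤ p - 1 :=
    Polynomial.natDegree_le_iff_coeff_eq_zero.2 fun k hk => by rw [coeff_expp_one, if_neg (by omega)]
  have := (Fact.out : p.Prime).pos
  omega

theorem mk_inj {A : Type u} [CommRing A] [Nontrivial A] {f g : Polynomial A} (hf : f.natDegree < p) (hg : g.natDegree < p)
    (h : AlphaPn.mk p 1 A f = AlphaPn.mk p 1 A g) : f = g := by
  have hd : ((Polynomial.X : Polynomial A) ^ p ^ 1) ∣ f - g :=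
    AdjoinRoot.mk_eq_mk.1 h
  obtain ⟨c, hc⟩ := hd
  rw [← sub_eq_zero]
  by_contra hne
  have hc0 : c ≠ 0 := fun e => hne (by rw [hc, e, mul_zero])
  have h1 : (f - g).natDegree = p + c.natDegree := by
    rw [hc, pow_one, (Polynomial.monic_X_pow p).natDegree_mul' hc0, Polynomial.natDegree_X_pow]
  have h2 := (Polynomial.natDegree_sub_le f g).trans (max_le hf.le hg.le)
  have h3 : (f - g).natDegree < p := lt_of_le_of_lt (Polynomial.natDegree_sub_le f g) (max_lt hf hg)
  omega

/-- On nonempty affine objects, every character comes from exactly one point. -/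
theorem bijective_app (T : Over X₀) [IsAffine T.left] [Nontrivial Γ(T.left, ⊤)] :
    Function.Bijective ((dualMap p R).hom.app (op T)) := by
  let A : Type u := Γ(T.left, ⊤)
  haveI : CharP A p := (CharP.charP_iff_prime_eq_zero (Fact.out : p.Prime)).2 (p_eq_zero p R T)
  let φ : Γ(T.left, ⊤) →+* AlphaPn.A p 1 A := algebraMap A _
  let W := extOb T φ
  obtain ⟨u, hu⟩ := exists_pt (p := p) (n := 1) (R := R) (T := W) (toExt T φ (AlphaPn.x p 1 A)) (by
    rw [← map_pow, AlphaPn.x_pow, map_zero])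
  have hval : ∀ a : T ⟶ Gn p 1 R,
      gmVal (pairSec p R a (extHom T φ) u) = toExt T φ (AlphaPn.mk p 1 A (expp p (fn a) 1)) := fun a => by
    rw [gmVal_pairSec, fn_comp, appTop_extHom, hu, ← map_pairVal p (by rw [← map_natCast φ, p_eq_zero p R T, map_zero])]
    congr 1
    rw [pairVal, ← map_expp p φ (p_eq_zero p R T), Polynomial.eval₂_map, RingHom.id_comp, ← AlphaPn.aeval_x]
    rfl
  refine ⟨fun s t h => ?_, fun χ => ?_⟩
  · let a : T ⟶ Gn p 1 R := (show ULift.{u + 1} (Additive (T ⟶ Gn p 1 R)) from s).down.toMul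
    let b : T ⟶ Gn p 1 R := (show ULift.{u + 1} (Additive (T ⟶ Gn p 1 R)) from t).down.toMul
    have h' : pairHom p R a = pairHom p R b := (dualMap_app p R a).symm.trans (h.trans (dualMap_app p R b))
    have e : gmVal (pairSec p R a (extHom T φ) u) = gmVal (pairSec p R b (extHom T φ) u) := by
      rw [← pairHom_app p R a, ← pairHom_app p R b, h']
    rw [hval, hval] at e
    have e' := congrArg (fun P : Polynomial A => P.coeff 1)
      (mk_inj p (natDegree_expp_lt p _) (natDegree_expp_lt p _) ((toExt_bijective T φ).1 e))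
    simp only [coeff_expp_one, if_pos (Fact.out : p.Prime).one_lt, Nat.factorial_one, Nat.cast_one, Ring.inverse_one,
      one_mul, pow_one] at e'
    exact ULift.ext _ _ (congrArg Additive.ofMul (fn_injective (show fn a = fn b by simpa using e')))
  let χ' : (CGrpSh.pts fppf (Gn p 1 R)).over T ⟶ (GmSh X₀).over T := χ
  let pt : ∀ {V : Over X₀}, (V ⟶ Gn p 1 R) → (CGrpSh.pts fppf (Gn p 1 R)).obj.obj (op V) := fun x => ULift.up.{u + 1} (Additive.ofMul x)
  let val : ∀ {V : Over X₀}, (V ⟶ T) → (V ⟶ Gn p 1 R) → Γ(V.left, ⊤) := fun g x =>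
    gmVal (χ'.hom.app (op (Over.mk g)) (pt x))
  have hvn : ∀ {V V' : Over X₀} (k : V' ⟶ V) (g : V ⟶ T) (x : V ⟶ Gn p 1 R),
      k.left.appTop (val g x) = val (k ≫ g) (k ≫ x) := fun k g x => by
    simp only [val]
    rw [← gmVal_map]
    exact congrArg gmVal (NatTrans.naturality_apply χ'.hom (Over.homMk k : Over.mk (k ≫ g) ⟶ Over.mk g).op (pt x)).symm
  have hvm : ∀ {V : Over X₀} (g : V ⟶ T) (x y : V ⟶ Gn p 1 R), val g (x * y) = val g x * val g y := fun g x y =>
    (congrArg gmVal (map_add (χ'.hom.app (op (Over.mk g))).hom (pt x) (pt y))).trans (gmVal_add _ _)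
  have hv1 : ∀ {V : Over X₀} (g : V ⟶ T), val g 1 = 1 := fun g =>
    (congrArg gmVal (map_zero (χ'.hom.app (op (Over.mk g))).hom)).trans gmVal_zero
  obtain ⟨z, hz⟩ := (toExt_bijective T φ).2 (val (extHom T φ) u)
  obtain ⟨f₀, hf₀⟩ := AlphaPn.mk_surjective p 1 A z
  let f : Polynomial A := f₀ %ₘ (Polynomial.X ^ p ^ 1)
  have hfz : AlphaPn.mk p 1 A f = z := by
    rw [← hf₀]
    exact AdjoinRoot.mk_eq_mk.2 ⟨-(f₀ /ₘ (Polynomial.X ^ p ^ 1)), by
      rw [show f = f₀ - Polynomial.X ^ p ^ 1 * (f₀ /ₘ Polynomial.X ^ p ^ 1) from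
        Polynomial.modByMonic_eq_sub_mul_div _ _]
      ring⟩
  have hdeg : f.natDegree < p ^ 1 := by
    have h := Polynomial.natDegree_modByMonic_lt f₀ (Polynomial.monic_X_pow (R := A) (p ^ 1)) (fun e => by
      have := congrArg Polynomial.natDegree e
      rw [Polynomial.natDegree_X_pow, Polynomial.natDegree_one, pow_one] at this
      exact (Fact.out : p.Prime).ne_zero this)
    rwa [Polynomial.natDegree_X_pow] at h
  have hev : ∀ {V : Over X₀} (g : V ⟶ T) (x : V ⟶ Gn p 1 R), val g x = f.eval₂ g.left.appTop.hom (fn x) := by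
    intro V g x
    letI : Algebra A Γ(V.left, ⊤) := g.left.appTop.hom.toAlgebra
    obtain ⟨m, hm, hm'⟩ := GrothLib.GaDualQ13.exists_lift T φ g (AlphaPn.lift p 1 A (fn x) (fn_pow x)).toRingHom
      (RingHom.ext fun r => (AlphaPn.lift p 1 A (fn x) (fn_pow x)).commutes r)
    have hmu : m ≫ u = x := fn_injective (by
      rw [fn_comp, hu]; exact (hm' _).trans (AlphaPn.lift_x _ _))
    rw [← hm, ← hmu, ← hvn m, ← hz, hm, hmu]
    refine (hm' _).trans ?_
    rw [← hfz, ← AlphaPn.aeval_x]
    show AlphaPn.lift p 1 A (fn x) (fn_pow x) (Polynomial.aeval (AlphaPn.x p 1 A) f) = _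
    rw [← Polynomial.aeval_algHom_apply, AlphaPn.lift_x]
    rfl
  let I : Ideal (MvPolynomial (Fin 2) A) :=
    Ideal.span {(MvPolynomial.X 0 : MvPolynomial (Fin 2) A) ^ p ^ 1, MvPolynomial.X 1 ^ p ^ 1}
  let φ₂ : Γ(T.left, ⊤) →+* MvPolynomial (Fin 2) A ⧸ I := (Ideal.Quotient.mk I).comp MvPolynomial.C
  have hI : ∀ k : Fin 2, (toExt T φ₂ (Ideal.Quotient.mk I (MvPolynomial.X k))) ^ p ^ 1 = 0 := fun k => by
    rw [← map_pow, ← map_pow, Ideal.Quotient.eq_zero_iff_mem.2 (Ideal.subset_span (by fin_cases k <;> simp)), map_zero]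
  choose w hw using fun k => exists_pt (p := p) (n := 1) (R := R) (T := extOb T φ₂) _ (hI k)
  have hev₂ : ∀ z : MvPolynomial (Fin 2) A,
      f.eval₂ (extHom T φ₂).left.appTop.hom (toExt T φ₂ (Ideal.Quotient.mk I z)) =
        toExt T φ₂ (Ideal.Quotient.mk I (Polynomial.aeval z f)) := fun z => by
    rw [show (extHom T φ₂).left.appTop.hom = (toExt T φ₂).comp φ₂ from RingHom.ext (appTop_extHom T φ₂),
      Polynomial.aeval_def, Polynomial.hom_eval₂, Polynomial.hom_eval₂]
    rfl
  have hmul := hvm (extHom T φ₂) (w 0) (w 1)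
  rw [hev, hev, hev, fn_mul, hw, hw, ← map_add, ← map_add, hev₂, hev₂, hev₂, ← map_mul, ← map_mul] at hmul
  have h0 : f.eval 0 = 1 := by
    have h := hv1 (𝟙 T)
    rw [hev, fn_one] at h
    simpa [Polynomial.eval] using h
  obtain ⟨c, hc, hfc⟩ := Groth.Agent.S13374.result p A 1 f hdeg h0 ((toExt_bijective T φ₂).1 hmul)
  obtain ⟨a, ha⟩ := exists_pt (p := p) (n := 1) (R := R) (T := T) (c 0) (by rw [pow_one]; exact hc 0)
  refine ⟨ULift.up.{u + 1} (Additive.ofMul a), ?_⟩
  refine Sheaf.hom_ext (NatTrans.ext (funext fun V => AddCommGrpCat.ext fun s => ?_))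
  let v : (unop V).left ⟶ Gn p 1 R := (show ULift.{u + 1} (Additive ((unop V).left ⟶ Gn p 1 R)) from s).down.toMul
  apply gmVal_injective
  show gmVal (pairSec p R a (unop V).hom v) = val (unop V).hom v
  rw [gmVal_pairSec, hev, fn_comp, ha, pairVal]
  have hfe : f = expp p (c 0) 1 := by
    rw [hfc, Finset.prod_range_one]
    simp only [expp, pow_zero, _root_.mul_one]
  rw [hfe, ← map_expp p (unop V).hom.left.appTop.hom (p_eq_zero p R T), Polynomial.eval₂_map, RingHom.id_comp]

/-- The duality map is an isomorphism. -/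
theorem isIso_dualMap : IsIso (dualMap p R) := by
  let J := QuotSh.J fppf X₀
  let D := HomSh.homSh J AP (GmSh X₀)
  let α := dualMap p R
  have hI : ∀ T : Over X₀, ∃ (idx : Type u) (W : idx → Over X₀) (g : ∀ i, W i ⟶ T),
      (∀ i, Function.Bijective (α.hom.app (op (W i)))) ∧ Sieve.generate (Presieve.ofArrows W g) ∈ J T := by
    intro T
    have hU : ∀ x : T.left, ∃ U : T.left.Opens, IsAffineOpen U ∧ x ∈ U := fun x => by
      obtain ⟨_, ⟨U, hU, rfl⟩, hx, -⟩ := T.left.isBasis_affineOpens.exists_subset_of_mem_open (Set.mem_univ x) isOpen_univ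
      exact ⟨U, hU, hx⟩
    choose U hUa hxU using hU
    haveI : ∀ x : T.left, IsOpenImmersion (oι T (U x)).left := fun x => inferInstanceAs (IsOpenImmersion (U x).ι)
    refine ⟨T.left, fun x => OU T (U x), fun x => oι T (U x), fun x => ?_,
      GrothLib.AdeqMod20.mem_J_of_opens_arrows _ fun x => ⟨x, ⟨x, hxU x⟩, rfl⟩⟩
    haveI : IsAffine (OU T (U x)).left := hUa x
    haveI : Nonempty ((⊤ : (OU T (U x)).left.Opens) : Set (OU T (U x)).left) := ⟨⟨⟨x, hxU x⟩, trivial⟩⟩
    exact bijective_app p R _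
  have hinj : ∀ T, Function.Injective (α.hom.app (op T)) := fun T a b h => by
    obtain ⟨idx, W, g, hb, hcov⟩ := hI T
    exact GrothLib.FppfH90Sch6.sect_ext AP g hcov fun i => (hb i).1 (by
      rw [NatTrans.naturality_apply α.hom, NatTrans.naturality_apply α.hom, h])
  haveI : Sheaf.IsLocallySurjective α := ⟨fun {T} s => by
    obtain ⟨idx, W, g, hb, hcov⟩ := hI T
    refine J.superset_covering ?_ hcov
    refine (Sieve.generate_le_iff _ _).2 ?_
    rintro Z _ ⟨i⟩
    exact (hb i).2 _⟩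
  haveI : Epi α := (Sheaf.isLocallySurjective_iff_epi' (φ := α)).1 inferInstance
  haveI : Mono α := by
    haveI : ∀ T, Mono (α.hom.app T) := fun T => (AddCommGrpCat.mono_iff_injective _).2 (hinj T.unop)
    exact (sheafToPresheaf _ _).mono_of_mono_map (NatTrans.mono_of_mono_app α.hom)
  exact isIso_of_mono_of_epi α

end GrothLib.AlphaDual6
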