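import Groth.Agent.Lib.HomShExact13.Dual

/-!
# The dual of a short exact sequence when the first Ext sheaf vanishes
-/

set_option autoImplicit false
set_option backward.isDefEq.respectTransparency false
set_option linter.all false

universe u

open CategoryTheory CategoryTheory.Limits Opposite

namespace GrothLib.AlphaDual6

variable {C : Type (u + 1)} [Category.{u} C] (J : GrothendieckTopology C)
  [HasSheafify J AddCommGrpCat.{u + 1}] [HasInjectiveResolutions (Sheaf J AddCommGrpCat.{u + 1})]

/-- Dualising a short exact sequence keeps it short exact if the first Ext sheaf of the quotient vanishes. -/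
theorem shortExact_dual {S : ShortComplex (Sheaf J AddCommGrpCat.{u + 1})} (hS : S.ShortExact)
    (M : Sheaf J AddCommGrpCat.{u + 1}) (h : IsZero ((HomSh.extSh J S.X₃ 1).obj M)) :
    (S.op.map ((HomSh.homShBi J).flip.obj M)).ShortExact := by
  rw [HomSh.extSh_def] at h
  haveI := hS.mono_f
  haveI := hS.epi_g
  exact
    { exact := GrothLib.HomShExact13.exact_homShMap_left hS M
      mono_f := GrothLib.HomShExact13.mono_homShMap_left S.g M
      epi_g := GrothLib.HomShExact13.epi_homShMap_of_isZero_rightDerived hS M h }

end GrothLib.AlphaDual6
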