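import Groth.Agent.Lib.AlphaDual6.Seq
import Groth.Agent.Lib.AlphaDual6.Dual
import Groth.Agent.Lib.GaDual13.GaAcyclic
import Groth.Agent.Lib.AlphaDual6.Gen
import Groth.Agent.Lib.ExtShGa6.Main

/-!
# Frobenius on the higher cohomology of the dual of the additive group
-/

set_option autoImplicit false
set_option backward.isDefEq.respectTransparency false
set_option linter.all false
set_option maxHeartbeats 400000
set_option synthInstance.maxHeartbeats 200000

universe u

open CategoryTheory CategoryTheory.Limits AlgebraicGeometry Opposite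

noncomputable section

namespace GrothLib.AlphaDual6

local notation "fppf" => Scheme.fppfPrecoverage

variable (p : ℕ) [Fact p.Prime] (R : Type u) [CommRing R] [CharP R p]
  (F : Red.Ga (Spec (CommRingCat.of R)) ⟶ Red.Ga (Spec (CommRingCat.of R))) [IsMonHom F]
  (hF : ∀ (T : Over (Spec (CommRingCat.of R))) (x : T ⟶ Red.Ga (Spec (CommRingCat.of R))), Red.gaFn (x ≫ F) = Red.gaFn x ^ p)

include hF

/-- `α_p` has no cohomology in degrees above one on affine schemes. -/
theorem subsingleton_H_alpha (m : ℕ) :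
    Subsingleton (BigSite.H fppf (Spec (CommRingCat.of R))
      (CGrpSh.pts fppf (GrothLib.AlphaExt6.Gn p 1 R)) (m + 2)) := by
  have h1 := GrothLib.GaDual13.subsingleton_H_Ga (CommRingCat.of R) m
  have h2 := GrothLib.GaDual13.subsingleton_H_Ga (CommRingCat.of R) (m + 1)
  refine ⟨fun a b => sub_eq_zero.mp ?_⟩
  obtain ⟨y, hy⟩ := Abelian.Ext.covariant_sequence_exact₁ _ (seq_shortExact p R F hF) (a - b) (h2.elim _ _)
    (rfl : m + 1 + 1 = m + 2)
  rw [← hy]
  obtain rfl : y = 0 := h1.elim _ _
  exact Abelian.Ext.zero_comp _ _ _ _ _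

/-- The dual of the Frobenius sequence is short exact. -/
theorem dualSeq_shortExact :
    ((CGrpSh.seq fppf (incl p R) F (incl_comp p R F hF)).op.map
      (CGrpSh2.dualFunctor fppf (Spec (CommRingCat.of R)))).ShortExact := by
  have hp : (p : Γ(Spec (CommRingCat.of R), ⊤)) = 0 := by
    rw [← map_natCast (Scheme.ΓSpecIso (CommRingCat.of R)).inv.hom, CharP.cast_eq_zero, map_zero]
  exact shortExact_dual (QuotSh.J fppf (Spec (CommRingCat.of R))) (seq_shortExact p R F hF) _
    (GrothLib.ExtShGa6.isZero_extSh p hp)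

/-- The dual Frobenius is bijective in degrees above two. -/
theorem bijective_H_map (m : ℕ) :
    Function.Bijective (Sheaf.H.map ((CGrpSh2.dualFunctor fppf (Spec (CommRingCat.of R))).map
      (CGrpSh.ptsMap fppf F).op) (m + 3)) := by
  have hT := dualSeq_shortExact p R F hF
  set T := (CGrpSh.seq fppf (incl p R) F (incl_comp p R F hF)).op.map (CGrpSh2.dualFunctor fppf (Spec (CommRingCat.of R)))
  have hq : ∀ n : ℕ, Subsingleton (BigSite.H fppf (Spec (CommRingCat.of R)) T.X₃ (n + 2)) := fun n => by
    haveI := isIso_dualMap p R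
    exact (((Sheaf.functorH _ (n + 2)).mapIso (asIso (dualMap p R))).addCommGroupIsoToAddEquiv.toEquiv.subsingleton_congr).mp
      (subsingleton_H_alpha p R F hF n)
  refine ⟨(injective_iff_map_eq_zero _).2 fun x hx => ?_, fun y => ?_⟩
  · obtain ⟨z, hz⟩ := Abelian.Ext.covariant_sequence_exact₁ _ hT x hx (rfl : m + 2 + 1 = m + 3)
    rw [← hz]
    obtain rfl : z = 0 := (hq m).elim _ _
    exact Abelian.Ext.zero_comp _ _ _ _ _
  · exact Abelian.Ext.covariant_sequence_exact₂ _ hT y ((hq (m + 1)).elim _ _)

end GrothLib.AlphaDual6
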