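import Groth.Agent.Lib.AlphaExt6.Seq
import Groth.Agent.Lib.RedPts.Ga
import Mathlib.RingTheory.AdjoinRoot

/-!
# The Frobenius sequence of the additive group
-/

set_option autoImplicit false
set_option backward.isDefEq.respectTransparency false
set_option backward.isDefEq.respectTransparency.types false
set_option linter.all false
set_option maxHeartbeats 400000
set_option synthInstance.maxHeartbeats 200000

universe u

open CategoryTheory CategoryTheory.Limits AlgebraicGeometry Opposite MonoidalCategory CartesianMonoidalCategory MonObj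
open GrothLib.AlphaExt6 (Gn fn fn_injective fn_comp fn_pow fn_mul fn_one exists_pt)

noncomputable section

namespace GrothLib.AlphaDual6

local notation "fppf" => Scheme.fppfPrecoverage

variable (p : ℕ) [Fact p.Prime] (R : Type u) [CommRing R] [CharP R p]

/-- The inclusion of `α_p` in the additive group. -/
def incl : Gn p 1 R ⟶ Red.Ga (Spec (CommRingCat.of R)) := GrothLib.RedPts.gaPt (fn (𝟙 (Gn p 1 R)))

theorem gaFn_incl {T : Over (Spec (CommRingCat.of R))} (x : T ⟶ Gn p 1 R) : Red.gaFn (x ≫ incl p R) = fn x := by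
  rw [GrothLib.RedPts.gaFn_comp, incl, GrothLib.RedPts.gaFn_gaPt, ← fn_comp, Category.comp_id]

instance isMonHom_incl : IsMonHom (incl p R) where
  one_hom := GrothLib.RedPts.gaFn_injective (by
    rw [gaFn_incl, MonObj.one_eq_one, MonObj.one_eq_one, fn_one, GrothLib.RedPts.gaFn_one])
  mul_hom := GrothLib.RedPts.gaFn_injective (by
    rw [gaFn_incl, MonObj.mul_eq_mul, MonObj.mul_eq_mul, MonObj.comp_mul, fn_mul, GrothLib.RedPts.gaFn_mul,
      tensorHom_fst, tensorHom_snd, gaFn_incl, gaFn_incl])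

variable (F : Red.Ga (Spec (CommRingCat.of R)) ⟶ Red.Ga (Spec (CommRingCat.of R))) [IsMonHom F]
  (hF : ∀ (T : Over (Spec (CommRingCat.of R))) (x : T ⟶ Red.Ga (Spec (CommRingCat.of R))), Red.gaFn (x ≫ F) = Red.gaFn x ^ p)

include hF in
theorem incl_comp : incl p R ≫ F = 1 := GrothLib.RedPts.gaFn_injective (by
  rw [hF, incl, GrothLib.RedPts.gaFn_gaPt, GrothLib.RedPts.gaFn_one]
  have := fn_pow (𝟙 (Gn p 1 R))
  rwa [pow_one] at this)

/-- The sequence is short exact. -/
theorem seq_shortExact : (CGrpSh.seq fppf (incl p R) F (incl_comp p R F hF)).ShortExact := by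
  set S := CGrpSh.seq fppf (incl p R) F (incl_comp p R F hF)
  let X := Spec (CommRingCat.of R)
  have hinj : ∀ {T : Over X} {x y : T ⟶ Gn p 1 R}, x ≫ incl p R = y ≫ incl p R → x = y := fun {T x y} h =>
    fn_injective (by rw [← gaFn_incl p R x, h, gaFn_incl])
  have hinjS : ∀ T, Function.Injective (S.f.hom.app T) := fun T a b h =>
    ULift.ext _ _ (congrArg Additive.ofMul (hinj (congrArg (fun z => Additive.toMul (ULift.down z)) h)))
  haveI hm : Mono S.f := by
    haveI : ∀ T, Mono (S.f.hom.app T) := fun T => (AddCommGrpCat.mono_iff_injective _).2 (hinjS T)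
    exact (sheafToPresheaf _ _).mono_of_mono_map (NatTrans.mono_of_mono_app S.f.hom)
  haveI : Sheaf.IsLocallySurjective S.g := ⟨fun {T} s => by
    let y : T ⟶ Red.Ga X := (show ULift.{u + 1} (Additive (T ⟶ Red.Ga X)) from s).down.toMul
    haveI : ∀ V : T.left.affineOpens, IsOpenImmersion (FppfH90Sch6.oι T V.1).left := fun V =>
      inferInstanceAs (IsOpenImmersion V.1.ι)
    have hcov : Sieve.generate (Presieve.ofArrows (fun V : T.left.affineOpens => FppfH90Sch6.OU T V.1)
        (fun V => FppfH90Sch6.oι T V.1)) ∈ QuotSh.J fppf X T :=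
      AdeqMod20.mem_J_of_opens_arrows _ fun x => by
        obtain ⟨_, ⟨V, hV, rfl⟩, hx, -⟩ := T.left.isBasis_affineOpens.exists_subset_of_mem_open (Set.mem_univ x) isOpen_univ
        exact ⟨⟨V, hV⟩, ⟨x, hx⟩, rfl⟩
    refine GrothendieckTopology.transitive _ hcov _ ?_
    rintro V _ ⟨W, a, _, ⟨O⟩, rfl⟩
    rw [Sieve.pullback_comp]
    refine GrothendieckTopology.pullback_stable _ a ?_
    let U := FppfH90Sch6.OU T O.1
    haveI : IsAffine U.left := O.2
    let c : Γ(U.left, ⊤) := Red.gaFn (FppfH90Sch6.oι T O.1 ≫ y)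
    let P : Polynomial Γ(U.left, ⊤) := Polynomial.X ^ p - Polynomial.C c
    have hP : P.Monic := Polynomial.monic_X_pow_sub_C _ (Fact.out : p.Prime).ne_zero
    haveI : Module.Free Γ(U.left, ⊤) (AdjoinRoot P) := hP.free_adjoinRoot
    haveI : Module.Finite Γ(U.left, ⊤) (AdjoinRoot P) := hP.finite_adjoinRoot
    let φ := algebraMap Γ(U.left, ⊤) (AdjoinRoot P)
    let m : Spec (CommRingCat.of (AdjoinRoot P)) ⟶ U.left :=
      Spec.map (CommRingCat.ofHom φ) ≫ U.left.isoSpec.inv
    haveI : Flat (Spec.map (CommRingCat.ofHom φ)) :=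
      (HasRingHomProperty.Spec_iff (P := @Flat)).2
        (RingHom.flat_algebraMap_iff.2 (inferInstance : Module.Flat Γ(U.left, ⊤) (AdjoinRoot P)))
    haveI : LocallyOfFinitePresentation (Spec.map (CommRingCat.ofHom φ)) :=
      (HasRingHomProperty.Spec_iff (P := @LocallyOfFinitePresentation)).2
        (RingHom.finitePresentation_algebraMap.2 (inferInstance : Algebra.FinitePresentation Γ(U.left, ⊤) (AdjoinRoot P)))
    haveI : Surjective (Spec.map (CommRingCat.ofHom φ)) := ⟨fun q => by
      rcases subsingleton_or_nontrivial Γ(U.left, ⊤) with hs | hs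
      · exact absurd (Subsingleton.elim (1 : Γ(U.left, ⊤)) 0 ▸ q.asIdeal.zero_mem) q.isPrime.one_notMem
      · haveI : Nontrivial (AdjoinRoot P) := by
          haveI : Nonempty (Fin (AdjoinRoot.powerBasis' hP).dim) := by
            rw [AdjoinRoot.powerBasis'_dim, Polynomial.natDegree_X_pow_sub_C]
            exact ⟨⟨0, (Fact.out : p.Prime).pos⟩⟩
          exact ⟨⟨(AdjoinRoot.powerBasis' hP).basis (Classical.arbitrary _), 0,
            (AdjoinRoot.powerBasis' hP).basis.ne_zero _⟩⟩
        exact PrimeSpectrum.comap_surjective_of_faithfullyFlat q⟩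
    let W' : Over X := Over.mk (m ≫ U.hom)
    let g : W' ⟶ U := Over.homMk m rfl
    haveI : Flat g.left := inferInstanceAs (Flat m)
    haveI : LocallyOfFinitePresentation g.left := inferInstanceAs (LocallyOfFinitePresentation m)
    haveI : Surjective g.left := inferInstanceAs (Surjective m)
    refine GrothendieckTopology.superset_covering _ ?_ (FppfH90Sch6.sieve_mem_single g)
    refine (Sieve.generate_le_iff _ _).2 ?_
    rintro Z _ ⟨⟩
    let z : Γ(W'.left, ⊤) := (Scheme.ΓSpecIso (CommRingCat.of (AdjoinRoot P))).inv (AdjoinRoot.root P)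
    refine ⟨(ULift.up.{u + 1} (Additive.ofMul (GrothLib.RedPts.gaPt z : W' ⟶ Red.Ga X)) :), ULift.ext _ _ ?_⟩
    refine congrArg Additive.ofMul (GrothLib.RedPts.gaFn_injective ?_)
    show Red.gaFn (GrothLib.RedPts.gaPt z ≫ F) = Red.gaFn ((g ≫ FppfH90Sch6.oι T O.1) ≫ y)
    rw [hF, GrothLib.RedPts.gaFn_gaPt, Category.assoc, GrothLib.RedPts.gaFn_comp]
    have hr : AdjoinRoot.root P ^ p = φ c := by
      have h := AdjoinRoot.eval₂_root P
      rwa [Polynomial.eval₂_sub, Polynomial.eval₂_X_pow, Polynomial.eval₂_C, sub_eq_zero] at h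
    show ((Scheme.ΓSpecIso (CommRingCat.of (AdjoinRoot P))).inv.hom (AdjoinRoot.root P)) ^ p = m.appTop c
    rw [← map_pow (Scheme.ΓSpecIso (CommRingCat.of (AdjoinRoot P))).inv.hom, hr]
    have h1 : U.left.isoSpec.inv.appTop = (Scheme.ΓSpecIso Γ(U.left, ⊤)).inv := by
      have h := congrArg Scheme.Hom.appTop U.left.isoSpec.inv_hom_id
      rw [Scheme.Hom.comp_appTop, show U.left.isoSpec.hom.appTop = (Scheme.ΓSpecIso Γ(U.left, ⊤)).hom from
        U.left.toSpecΓ_appTop] at h
      rw [← Iso.inv_hom_id_assoc (Scheme.ΓSpecIso Γ(U.left, ⊤)) U.left.isoSpec.inv.appTop, h]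
      simp
    rw [Scheme.Hom.comp_appTop, h1]
    exact ConcreteCategory.congr_hom (Scheme.ΓSpecIso_inv_naturality (CommRingCat.ofHom φ)) c⟩
  haveI : Epi S.g := (Sheaf.isLocallySurjective_iff_epi' (φ := S.g)).1 inferInstance
  have hker : ∀ T (z : S.X₂.obj.obj (op T)), S.g.hom.app (op T) z = 0 → ∃ a, S.f.hom.app (op T) a = z := by
    intro T z h
    let x : T ⟶ Red.Ga X := (show ULift.{u + 1} (Additive (T ⟶ Red.Ga X)) from z).down.toMul
    have h0 : x ≫ F = 1 := congrArg (fun w => Additive.toMul (ULift.down w)) h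
    obtain ⟨a, ha⟩ := exists_pt (p := p) (n := 1) (T := T) (Red.gaFn x) (by
      rw [pow_one, ← hF T x, h0, GrothLib.RedPts.gaFn_one])
    exact ⟨(ULift.up.{u + 1} (Additive.ofMul a) :), ULift.ext _ _ (congrArg Additive.ofMul
      (GrothLib.RedPts.gaFn_injective ((gaFn_incl p R a).trans ha)))⟩
  refine { exact := ShortComplex.exact_of_f_is_kernel _ ?_ }
  refine KernelFork.IsLimit.ofι' S.f S.zero fun {Z} k hk => ?_
  have h : ∀ T (z : Z.obj.obj T), ∃ a, S.f.hom.app T a = k.hom.app T z := fun T z =>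
    hker (unop T) _ (ConcreteCategory.congr_hom (congrArg (fun m : Z ⟶ S.X₃ => m.hom.app T) hk) z)
  choose a ha using h
  refine ⟨⟨{ app := fun T => AddCommGrpCat.ofHom (AddMonoidHom.mk' (a T) fun z z' => hinjS T (by
              rw [map_add, ha, ha, ha, map_add]))
             naturality := fun T T' f => AddCommGrpCat.ext fun z => hinjS T' (by
              show S.f.hom.app T' (a T' (Z.obj.map f z)) = S.f.hom.app T' (S.X₁.obj.map f (a T z))
              rw [ha, NatTrans.naturality_apply S.f.hom f, ha, NatTrans.naturality_apply k.hom f]) }⟩,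
    Sheaf.hom_ext (NatTrans.ext (funext fun T => AddCommGrpCat.ext fun z => ha T z))⟩

end GrothLib.AlphaDual6
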